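import Cfsg.Agent.H24.Q5.Mat
import Cfsg.Agent.H779.G2.Stmts

/-!
# S5211, block q = 5: the fusion part (exact statements)

Plan: `outputs/live/tools/plans/S5211_helper24.md`, Part Q5; leader of S5211: helper779 (`H779/G2/Stmts.lean`).
The goal is `StMain5` for `K = ZMod 5` (`StMain5Z` below); `StPush5` reduces `StMain5` to it.
-/

set_option autoImplicit false

namespace Cfsg.Agent.H24.Q5

open Cfsg Cfsg.FusionSystem Cfsg.Agent.H756.PU Cfsg.Agent.H779.G2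

universe u

instance fact5 : Fact (Nat.Prime 5) := ⟨by norm_num⟩

/-- the Sylow 5-subgroup of `G₂(5)` -/
abbrev U5 : Type := GU (ZMod 5)

/-- `Q_a` -/
abbrev A5 : Subgroup U5 := Qa (ZMod 5)

/-- `Q_b` -/
abbrev B5 : Subgroup U5 := Qb (ZMod 5)

/-- the coordinates of `Q_a / Z₁` -/
def vec (g : U5) : Fin 4 → ZMod 5 := ![g.e, - g.d, g.c, g.b]

/-- `γ` acts on `Q_a / Z₁` as the matrix `g` (so `c_x` for `x = x_a(-1)` acts as `gA`, and `tor(s,t)` acts as
`diag(s³t, s²t, st, t)`) -/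
def Acts (γ : MulAut A5) (g : M5ˣ) : Prop :=
  ∀ x : A5, vec ((γ x : A5) : U5) = (g : M5).mulVec (vec (x : U5))

/-- the diagonal matrix of `tor(s,t)` -/
def mdg (s t : ZMod 5) : M5 := Matrix.diagonal ![s ^ 3 * t, s ^ 2 * t, s * t, t]

theorem mdg_h2 : mdg 3 4 = mh2 := by decide +kernel
theorem mdg_h1 : mdg 4 2 = mh1 := by decide +kernel
theorem mdg_neg : mdg 1 (-1) = -1 := by decide +kernel

/-- `L` : generated by the matrices of order 5 of `Γ = Aut_F(Q_a)` -/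
def LG (Γ : Subgroup (MulAut A5)) : Subgroup M5ˣ :=
  Subgroup.closure {g | g ^ 5 = 1 ∧ ∃ γ ∈ Γ, Acts γ g}

/-- the plain automorphism `tor(s,t)` -/
def IsT (α : MulAut U5) (s t : ZMod 5) : Prop := IsTor α s t (RingEquiv.refl _)

/-! ### The short root parabolic -/

/-- (F1) `Γ` acts through matrices: every automorphism of `Q_a` acts by a matrix which is a similarity of `Om`, `Inn(Q_a)` is
the kernel, `c_{x_a(-1)}` acts as `gA`, `tor(s,t)` acts as `mdg s t`; `Acts` is multiplicative -/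
def StF1 : Prop :=
  (∀ γ : MulAut A5, ∃ g : M5ˣ, Acts γ g) ∧
  (∀ γ g h, Acts γ g → Acts γ h → g = h) ∧
  (∀ γ δ g h, Acts γ g → Acts δ h → Acts (γ * δ) (g * h)) ∧
  (∀ γ, Acts γ 1 ↔ γ ∈ Inn A5) ∧
  (∀ γ g, Acts γ g → ∃ l : ZMod 5, l ≠ 0 ∧ (g : M5).transpose * Om * (g : M5) = l • Om) ∧
  (∀ γ : MulAut A5, IsC (⟨-1, 0, 0, 0, 0, 0⟩ : U5) γ → Acts γ gA) ∧
  (∀ (α : MulAut U5) (s t : ZMod 5), IsT α s t → ∀ γ : MulAut A5, IsR α γ → ∀ g : M5ˣ, (g : M5) = mdg s t → Acts γ g)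

/-- (F2) `L` satisfies the hypotheses of the matrix block -/
def StF2 : Prop :=
  ∀ (Γ : Subgroup (MulAut A5)) (D : Subgroup (MulAut U5)), Par 5 A5 Γ D → HasTor D (fun t => t⁻¹) (fun t => t ^ 2) →
    ¬ Inv Γ (Z2 (ZMod 5)) → ¬ Inv Γ (Z3 (ZMod 5)) → Hyp (LG Γ)

/-- (F3) `D` consists of plain torus elements and contains those whose matrices are in `L`; `Γ` is determined by `L` and `D`;
the order of `Γ` -/
def StF3 : Prop :=
  ∀ (Γ : Subgroup (MulAut A5)) (D : Subgroup (MulAut U5)), Par 5 A5 Γ D →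
    (∀ d ∈ D, ∃ s t, IsT d s t) ∧
    (∀ s t (α : MulAut U5), IsT α s t → (∃ g ∈ LG Γ, (g : M5) = mdg s t) → α ∈ D) ∧
    (∀ γ : MulAut A5, γ ∈ Γ ↔ ∃ g ∈ LG Γ, ∃ d ∈ D, ∃ s t, IsT d s t ∧ ∃ h : M5ˣ, (h : M5) = mdg s t ∧ Acts γ (g * h)) ∧
    Nat.card Γ * Nat.card {g : M5ˣ // g ∈ LG Γ ∧ ∃ d ∈ D, ∃ s t, IsT d s t ∧ (g : M5) = mdg s t} =
      625 * Nat.card (LG Γ) * Nat.card D

/-- (Lb5) the long root parabolic at `q = 5` without `Full D`: it is enough that `tor(1,-1) ∈ D` -/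
def StLb5 : Prop :=
  ∀ (Γ : Subgroup (MulAut B5)) (D : Subgroup (MulAut U5)), Par 5 B5 Γ D →
    HasTor D (fun t => t⁻¹) (fun t => t ^ 2) ∧ ((∀ α, IsT α 1 (-1) → α ∈ D) → Γ = Gen IsWb D)

/-! ### The systems -/

/-- (ESS5) what the general theory gives for a core-free system at `q = 5` (StE5, StCon, StCompl, StPos, StTwist, StTI, StEss):
after a twist `Aut_F(S) = Inn(S)·D`, both parabolics satisfy `Par`, neither `Z₂` nor `Z₃` is `Aut_F(Q_a)`-invariant;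
or `F` is realizable -/
structure Good (F : FusionSystem (⊤ : Subgroup U5)) (D : Subgroup (MulAut U5)) : Prop where
  sat : F.IsSaturated 5
  ess : ∀ E, F.IsEssential 5 E → E = A5 ∨ E = B5
  af : AF F = (MulAut.conj : U5 →* MulAut U5).range ⊔ D
  parA : Par 5 A5 (F.autGroup A5) D
  parB : Par 5 B5 (F.autGroup B5) D
  z2 : ¬ Inv (F.autGroup A5) (Z2 (ZMod 5))
  z3 : ¬ Inv (F.autGroup A5) (Z3 (ZMod 5))

/-- (G) reduction of a core-free system to a good one -/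
def StGood : Prop :=
  ∀ (F : FusionSystem (⊤ : Subgroup U5)), F.IsSaturated 5 → F.core = ⊥ →
    ∃ (F' : FusionSystem (⊤ : Subgroup U5)) (D : Subgroup (MulAut U5)), Good F' D ∧
      (F'.IsRealizable 5 ↔ F.IsRealizable 5) ∧ Nat.card (F'.autGroup A5) = Nat.card (F.autGroup A5)

/-- (U) two good systems with automizers of `Q_a` of the same order are equal -/
def StUniq : Prop :=
  ∀ (F F' : FusionSystem (⊤ : Subgroup U5)) (D D' : Subgroup (MulAut U5)), Good F D → Good F' D' →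
    Nat.card (F.autGroup A5) = Nat.card (F'.autGroup A5) → ∀ P, F.Hom P = F'.Hom P

/-- (V) the five possible orders -/
def StFive : Prop :=
  ∀ (F : FusionSystem (⊤ : Subgroup U5)) (D : Subgroup (MulAut U5)), Good F D →
    Nat.card (F.autGroup A5) ∈ ({625 * 480, 625 * 640, 625 * 1280, 625 * 2880, 625 * 7680} : Set ℕ)

/-! ### Rows: the local data of a finite group -/

/-- `G` has a Sylow 5-subgroup isomorphic to `U5` with the local properties (a1), (a2): `N_G(Q_a)` moves `Z₂` and `Z₃`,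
(b): `Z₁` is not strongly closed -/
structure Loc (G : Type) [Group G] (T : Sylow 5 G) (e : (T : Subgroup G) ≃* U5) : Prop where
  a1 : ∃ g : G, (∀ x : (T : Subgroup G), e x ∈ A5 → ∃ y : (T : Subgroup G), (y : G) = g * x * g⁻¹ ∧ e y ∈ A5) ∧
    ∃ x y : (T : Subgroup G), e x ∈ Z2 (ZMod 5) ∧ (y : G) = g * x * g⁻¹ ∧ e y ∉ Z2 (ZMod 5)
  a2 : ∃ g : G, (∀ x : (T : Subgroup G), e x ∈ A5 → ∃ y : (T : Subgroup G), (y : G) = g * x * g⁻¹ ∧ e y ∈ A5) ∧
    ∃ x y : (T : Subgroup G), e x ∈ Z3 (ZMod 5) ∧ (y : G) = g * x * g⁻¹ ∧ e y ∉ Z3 (ZMod 5)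
  b : ∃ (g : G) (x y : (T : Subgroup G)), e x ∈ Z1 (ZMod 5) ∧ (y : G) = g * x * g⁻¹ ∧ e y ∉ Z1 (ZMod 5)

/-- the subgroup of `G` corresponding to `Q_a` -/
def QG {G : Type} [Group G] (T : Sylow 5 G) (e : (T : Subgroup G) ≃* U5) : Subgroup G :=
  (A5.comap e.toMonoidHom).map (T : Subgroup G).subtype

/-- the order of `N_G(Q)/C_G(Q)` -/
noncomputable def autN {G : Type} [Group G] (T : Sylow 5 G) (e : (T : Subgroup G) ≃* U5) : ℕ :=
  (Subgroup.centralizer (QG T e : Set G)).relIndex (Subgroup.normalizer (QG T e : Set G))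

/-- a row -/
def Row (P : ℕ → Prop) : Prop :=
  ∃ (G : Type) (_ : Group G) (_ : Finite G) (T : Sylow 5 G) (e : (T : Subgroup G) ≃* U5), Loc G T e ∧ P (autN T e)

/-- (ROW) a row gives a core-free realizable system over `U5` -/
def StRowSys : Prop :=
  ∀ (G : Type) [Group G] [Finite G] (T : Sylow 5 G) (e : (T : Subgroup G) ≃* U5), Loc G T e →
    ∃ F : FusionSystem (⊤ : Subgroup U5), F.IsSaturated 5 ∧ F.IsRealizable 5 ∧ F.core = ⊥ ∧
      Nat.card (F.autGroup A5) = autN T e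

/-- (row `G₂(5)`; the true value is `625 * 480`) -/
def StRowG2 : Prop := Row fun n => 3 ∣ n ∧ ¬ 9 ∣ n ∧ ¬ 128 ∣ n
/-- (row `HN`; the true value is `625 * 640`) -/
def StRowHN : Prop := Row fun n => ¬ 3 ∣ n ∧ ¬ 256 ∣ n
/-- (row `Aut(HN)`; the true value is `625 * 1280`) -/
def StRowHN2 : Prop := Row fun n => ¬ 3 ∣ n ∧ 256 ∣ n
/-- (row `Ly`; the true value is `625 * 2880`) -/
def StRowLy : Prop := Row fun n => 9 ∣ n
/-- (row `B`; the true value is `625 * 7680`) -/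
def StRowB : Prop := Row fun n => 3 ∣ n ∧ 128 ∣ n

/-- the goal over `ZMod 5` -/
def StMain5Z : Prop :=
  ∀ (F : FusionSystem (⊤ : Subgroup U5)), F.IsSaturated 5 → F.core = ⊥ → F.IsRealizable 5

/-- (PUSH) transport of core-free systems to `U5` -/
def StPush5 : Prop := StMain5Z → StMain5.{u}

end Cfsg.Agent.H24.Q5
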