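import Cfsg.Agent.H770.QF.Fin

/-!
# S5211, block q = 5: `StF2` and `StF3` (helper770's proofs under the names announced before)
-/

set_option autoImplicit false

namespace Cfsg.Agent.H24.Q5.Tr

theorem stF2 : StF2 := Cfsg.Agent.H770.QF.stF2

theorem stF3 : StF3 := Cfsg.Agent.H770.QF.stF3

end Cfsg.Agent.H24.Q5.Tr
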