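import Cfsg.Agent.H772.G2.Asm5
import Cfsg.Agent.H35.Q5.M1
import Cfsg.Agent.H117.Q5.StM2
import Cfsg.Agent.H117.Q5.StM2s
import Cfsg.Agent.H689.Q5.M3
import Cfsg.Agent.H29.Q5M.Four
import Cfsg.Agent.H309.Q5.M5
import Cfsg.Agent.H473.Q5.M6
import Cfsg.Agent.H770.QF.Par
import Cfsg.Agent.H24.Q5.Tr
import Cfsg.Agent.H353.GT.LbFive
import Cfsg.Agent.H103.GT.Good5
import Cfsg.Agent.H546.PU.Constr
import Cfsg.Agent.H650.GU.RowFive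
import Cfsg.Agent.H913.Q5.RowLyFin

/-!
# S5211, block q = 5: everything plugged in except the rows `HN`, `Aut(HN)`, `B`
-/

set_option autoImplicit false

namespace Cfsg.Agent.H24.Q5

open Cfsg Cfsg.Agent.H779.G2

universe u

theorem stM5 : StM5 :=
  H309.Q5.stM5_of H35.Q5.stM1 (H117.Q5.stM2s H35.Q5.stM1) (H117.Q5.stM2 H35.Q5.stM1) H473.Q5.stM6

theorem stM : StM :=
  H770.QF.stM_of (H117.Q5.stM2 H35.Q5.stM1) (H689.Q5.stM3 H35.Q5.stM1) H29.Q5M.stM4 stM5 H473.Q5.stM6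

theorem stFive : StFive :=
  H772.G2.stFive stM (H689.Q5.stM3 H35.Q5.stM1) H473.Q5.stM6 Tr.stF2 Tr.stF3 H353.GT.stLb5

theorem stMain5_of (H : H103.GT.Pieces.{0}) (rHN : StRowHN) (rHN2 : StRowHN2) (rB : StRowB) : StMain5.{u} :=
  H772.G2.stMain5 (H103.GT.stGood_of H) stM (H689.Q5.stM3 H35.Q5.stM1) H473.Q5.stM6 Tr.stF2 Tr.stF3 H353.GT.stLb5
    H650.GA.stGrp H546.PU.stSame H650.GR.rowG2 rHN rHN2 H913.Q5.stRowLy rB

end Cfsg.Agent.H24.Q5
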