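import Cfsg.Agent.H24.Q5.Final
import Cfsg.Agent.H793.G5.HNRows
import Cfsg.Agent.H913.Q5.RowB

/-!
# S5211, block q = 5: everything plugged in except the words in `B` (helper863)
-/

set_option autoImplicit false

namespace Cfsg.Agent.H24.Q5

open Cfsg Cfsg.Agent.H779.G2 Cfsg.Agent.H913.Q5

universe u

theorem stMain5_of_B (H : H103.GT.Pieces.{0})
    (hB : ∃ (v a b c d w : Cfsg.Spor.BabyMonster) (κ l : ℤ) (E : Ext5 v a b c d κ l), w ^ 3 = 1 ∧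
      w * a * w⁻¹ ∈ E.grp ∧ w * b * w⁻¹ ∈ E.grp ∧ w * c * w⁻¹ ∈ E.grp ∧ w * d * w⁻¹ ∈ E.grp ∧
      w * v * w⁻¹ ∈ E.grp ∧ w * a ≠ a * w) : StMain5.{u} :=
  have hg := H103.GT.stGood_of H
  have hs := H772.G2.stRowSys
  stMain5_of H (H793.G5.rowHN hs hg stFive) (H793.G5.rowHN2 hs hg stFive)
    (stRowB_of (H793.G5.hn_128 hs hg stFive) hB)

end Cfsg.Agent.H24.Q5
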