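import Cfsg.Agent.H24.Q5.FinalB
import Cfsg.Agent.H913.Q5.BFin

/-!
# S5211, block q = 5: `StMain5`
-/

set_option autoImplicit false

namespace Cfsg.Agent.H24.Q5

open Cfsg Cfsg.Agent.H779.G2

universe u

theorem stMain5 (H : H103.GT.Pieces.{0}) : StMain5.{u} :=
  stMain5_of_B H H913.Q5.exists_B

end Cfsg.Agent.H24.Q5
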