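import Mathlib

/-!
# S5211, block q = 5: the matrix block (exact statements)

`V = Q₁/Z₁` is the symplectic space of dimension 4 over `F₅`, coordinates `(b, c, d, e)` of `H650.G.GU`. The element
`x₁(1)` acts by `mA` (one Jordan block), the torus `tor s t` by `diag(s³t, s²t, st, t)`. `L` is the group generated by the
elements of order 5 of `Out_F(Q₁)`. Plan: `outputs/live/tools/plans/S5211_helper24.md`, Part Q5.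
-/

set_option autoImplicit false

namespace Cfsg.Agent.H24.Q5

open Matrix

abbrev M5 := Matrix (Fin 4) (Fin 4) (ZMod 5)

/-- the action of `x₁(1)` -/
def mA : M5 := !![1, -3, 3, 1; 0, 1, -2, -1; 0, 0, 1, 1; 0, 0, 0, 1]

/-- the commutator form `b e' - e b' + 3 (c d' - d c')` -/
def Om : M5 := !![0, 0, 0, 1; 0, 0, 3, 0; 0, -3, 0, 0; -1, 0, 0, 0]

/-- torus element `h₂(2)`: `s = 3, t = 4` -/
def mh2 : M5 := !![3, 0, 0, 0; 0, 1, 0, 0; 0, 0, 2, 0; 0, 0, 0, 4]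

/-- torus element `h₁(2)`: `s = 4, t = 2` -/
def mh1 : M5 := !![3, 0, 0, 0; 0, 2, 0, 0; 0, 0, 3, 0; 0, 0, 0, 2]

/-- the second generators of the four groups: `SL₂(5)` (irreducible), `2^(1+4).5`, `2.A₆`, `2^(1+4).A₅`, and of the
reducible `SL₂(5)` -/
def mS : M5 := !![1, 0, 0, 0; 1, 1, 0, 0; 1, 2, 1, 0; 4, 2, 2, 1]
def mR : M5 := !![1, 1, 0, 0; 0, 1, 0, 0; 2, 4, 1, 3; 3, 4, 0, 1]
def mC : M5 := !![1, 1, 0, 0; 0, 1, 0, 0; 1, 2, 1, 3; 4, 2, 0, 1]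
def mB : M5 := !![1, 0, 0, 0; 1, 1, 0, 0; 2, 4, 1, 0; 3, 4, 2, 1]
def mP : M5 := !![1, 0, 3, 1; 3, 1, 3, 4; 0, 0, 1, 0; 0, 0, 1, 1]

theorem mA5 : mA ^ 5 = 1 := by decide +kernel
theorem mS5 : mS ^ 5 = 1 := by decide +kernel
theorem mR5 : mR ^ 5 = 1 := by decide +kernel
theorem mC5 : mC ^ 5 = 1 := by decide +kernel
theorem mB5 : mB ^ 5 = 1 := by decide +kernel
theorem mP5 : mP ^ 5 = 1 := by decide +kernel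
theorem mh24 : mh2 ^ 4 = 1 := by decide +kernel
theorem mh14 : mh1 ^ 4 = 1 := by decide +kernel

/-- a unit from a matrix of finite order -/
def un (m : M5) (n : ℕ) (h : m ^ (n + 1) = 1) : M5ˣ := ⟨m, m ^ n, by rw [← pow_succ', h], by rw [← pow_succ, h]⟩

def gA : M5ˣ := un mA 4 mA5
def gS : M5ˣ := un mS 4 mS5
def gR : M5ˣ := un mR 4 mR5
def gC : M5ˣ := un mC 4 mC5
def gB : M5ˣ := un mB 4 mB5
def gP : M5ˣ := un mP 4 mP5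
def gh2 : M5ˣ := un mh2 3 mh24
def gh1 : M5ˣ := un mh1 3 mh14

/-- the hypotheses on `L` -/
structure Hyp (L : Subgroup M5ˣ) : Prop where
  iso : ∀ g ∈ L, (g : M5)ᵀ * Om * g = Om
  memA : gA ∈ L
  card : ¬ 25 ∣ Nat.card L
  gen : L ≤ Subgroup.closure {g | g ∈ L ∧ g ^ 5 = 1}
  h2 : ∀ g ∈ L, gh2 * g * gh2⁻¹ ∈ L
  irr1 : ¬ ∀ g ∈ L, (g : M5) 1 0 = 0 ∧ (g : M5) 2 0 = 0 ∧ (g : M5) 3 0 = 0
  irr2 : ¬ ∀ g ∈ L, (g : M5) 2 0 = 0 ∧ (g : M5) 3 0 = 0 ∧ (g : M5) 2 1 = 0 ∧ (g : M5) 3 1 = 0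

/-- the four groups -/
def LS : Subgroup M5ˣ := Subgroup.closure {gA, gS}
def LR : Subgroup M5ˣ := Subgroup.closure {gA, gR}
def LC : Subgroup M5ˣ := Subgroup.closure {gA, gC}
def LB : Subgroup M5ˣ := Subgroup.closure {gA, gB}
def LP : Subgroup M5ˣ := Subgroup.closure {gA, gP}

/-! ### The statements -/

/-- (M1) elements of order 5 and centralizers -/
def StM1 : Prop := ∀ L : Subgroup M5ˣ, Hyp L →
  (∀ g ∈ L, g ^ 5 = 1 → g ≠ 1 → ∃ x ∈ L, ∃ k : ℕ, x * gA ^ k * x⁻¹ = g) ∧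
  (∀ g ∈ L, g ^ 5 = 1 → g ≠ 1 → ((g : M5) - 1) ^ 3 ≠ 0) ∧
  (∀ g ∈ L, g * gA = gA * g → ∃ k : ℕ, g = gA ^ k ∨ g = - gA ^ k) ∧
  (∀ g ∈ L, ∀ k : ℕ, g * gA * g⁻¹ = gA ^ k → gA ^ k = gA ∨ gA ^ k = gA⁻¹) ∧
  Nat.card L ∣ 2 ^ 7 * 3 ^ 2 * 5 * 13

/-- (M2) there is a second Sylow subgroup normalized by `gh2`, and it is one of five -/
def StM2 : Prop := ∀ L : Subgroup M5ˣ, Hyp L → gS ∈ L ∨ gR ∈ L ∨ gC ∈ L ∨ gB ∈ L ∨ gP ∈ L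

/-- (M3) the structure: either a normal extraspecial subgroup of order 32 or order 120, 720 -/
def StM3 : Prop := ∀ L : Subgroup M5ˣ, Hyp L → -1 ∈ L →
  (∃ R : Subgroup M5ˣ, R ≤ L ∧ (∀ g ∈ L, ∀ r ∈ R, g * r * g⁻¹ ∈ R) ∧ Nat.card R = 32 ∧ -1 ∈ R ∧
    (∀ r ∈ R, r ^ 2 = 1 ∨ r ^ 2 = -1) ∧ (∀ r ∈ R, ∀ s ∈ R, r * s = s * r ∨ r * s = - (s * r)) ∧
    (∀ r ∈ R, r * gA = gA * r → r = 1 ∨ r = -1) ∧ (∀ g ∈ L, gh2 * g * gh2⁻¹ ∈ R → g ∈ R) ∧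
    (Nat.card L = 160 ∨ Nat.card L = 1920)) ∨
  Nat.card L = 120 ∨ Nat.card L = 720

/-- (M4) uniqueness of the extraspecial group and of the two groups above it -/
def StM4 : Prop := ∀ L R : Subgroup M5ˣ, Hyp L → R ≤ L → (∀ g ∈ L, ∀ r ∈ R, g * r * g⁻¹ ∈ R) → Nat.card R = 32 → -1 ∈ R →
    (∀ r ∈ R, r ^ 2 = 1 ∨ r ^ 2 = -1) → (∀ r ∈ R, ∀ s ∈ R, r * s = s * r ∨ r * s = - (s * r)) →
    (∀ r ∈ R, r * gA = gA * r → r = 1 ∨ r = -1) → (∀ r ∈ R, gh2 * r * gh2⁻¹ ∈ R) →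
    (Nat.card L = 160 → L = LR) ∧ (Nat.card L = 1920 → L = LB)

/-- (M5) the case of order 720 -/
def StM5 : Prop := ∀ L : Subgroup M5ˣ, Hyp L → Nat.card L = 720 → gC ∈ L

/-- (M6) the orders of the five explicit groups, `-1` and `gh1` -/
def StM6 : Prop := (120 ≤ Nat.card LS ∧ 160 ≤ Nat.card LR ∧ 720 ≤ Nat.card LC ∧ 1920 ≤ Nat.card LB ∧ 120 ≤ Nat.card LP) ∧
  (-1 ∈ LS ∧ -1 ∈ LR ∧ -1 ∈ LC ∧ -1 ∈ LB ∧ -1 ∈ LP) ∧ gh1 ∈ LS ∧ gh1 ∈ LC ∧ gh1 ∈ LB ∧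
  (∀ g ∈ LP, (g : M5) 2 0 = 0 ∧ (g : M5) 3 0 = 0 ∧ (g : M5) 2 1 = 0 ∧ (g : M5) 3 1 = 0)

/-- (M) the classification -/
def StM : Prop := ∀ L : Subgroup M5ˣ, Hyp L →
  (Nat.card L = 120 ∧ L = LS) ∨ (Nat.card L = 160 ∧ L = LR) ∨ (Nat.card L = 720 ∧ L = LC) ∨ (Nat.card L = 1920 ∧ L = LB)

end Cfsg.Agent.H24.Q5
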